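import Cfsg.Agent.H772.TF.PlusH
import Cfsg.Agent.H42.Tw.F4Three
import Cfsg.Agent.H42.Tw.AbF4
import Cfsg.Agent.H800.Sp.Base_m3
import Cfsg.Agent.H240.StrongP
import Mathlib
import Cfsg.Agent.ClassicalGeometry.NonsplitTorus
import Cfsg.Agent.ChevalleyStructure.SL2Hom
import Cfsg.Agent.H565.TwF4Rank
import Cfsg.Agent.H128.TwF4Ab
import Cfsg.Agent.FastGrp
import Cfsg.Agent.Prune
set_option linter.all false

section
prune_inst 0x7f00000000000000000000000000000000000000000000000000000000000000000000000000000000000000000000000000000000000000000000000000000000000000000000000000000000000000003fffffffffffffffffffffffffffbeffbdffffffff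

-- part: H772/TF/SylThree
section
set_option linter.all false
open scoped Cfsg.Agent.FastGrp

/-!
# `²F₄(q)`: an element of order 3 acting non-trivially on `E3` (S2120, task 708)

`exists_w` : from an extraspecial subgroup of order 27 and `|G|_3 ≤ 3 (q + 1)_3 ^ 2`.
-/

set_option autoImplicit false
set_option linter.unusedSectionVars false

namespace Cfsg.Agent.H772.TF

open Cfsg.Agent.SplitTwo Cfsg.Agent.SplitTwo.ZS Cfsg.Agent.TitsThree.RankTwoZ
open Cfsg.Agent.KFacts.TwF4 Cfsg.Agent.KFacts.TwF4.Arc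
open Subgroup

universe u

/-! ### generalities -/

section gen

variable {G : Type u} [Group G]

theorem cube_mul {a y c : G} (h : y * a = c * (a * y)) (h1 : c * a = a * c) (h2 : c * y = y * c) :
    (a * y) * (a * y) * (a * y) = (c * c * c) * ((a * a * a) * (y * y * y)) := by
  calc (a * y) * (a * y) * (a * y) = a * (y * a) * (y * a) * y := by group
    _ = a * (c * (a * y)) * (c * (a * y)) * y := by rw [h]
    _ = (a * c) * a * (y * c) * a * y * y := by group
    _ = (c * a) * a * (c * y) * a * y * y := by rw [← h1, ← h2]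
    _ = c * a * (a * c) * (y * a) * y * y := by group
    _ = c * a * (c * a) * (c * (a * y)) * y * y := by rw [← h1, h]
    _ = c * (a * c) * (a * c) * a * y * y * y := by group
    _ = c * (c * a) * (c * a) * a * y * y * y := by rw [← h1]
    _ = c * c * (a * c) * a * a * y * y * y := by group
    _ = c * c * (c * a) * a * a * y * y * y := by rw [← h1]
    _ = _ := by group

/-- in a `p`-group `P` with an abelian subgroup `T` of index at most `p`, containing non-commuting `x, y` -/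
theorem index_facts [Finite G] {P T : Subgroup G} (hP : IsPGroup 3 P) (hTP : T ≤ P) (hT : ∀ a ∈ T, ∀ b ∈ T, a * b = b * a)
    (hcard : Nat.card P ≤ 3 * Nat.card T) {x y : G} (hx : x ∈ P) (hy : y ∈ P) (hxy : x * y ≠ y * x) :
    (∀ g ∈ P, ∀ t ∈ T, g * t * g⁻¹ ∈ T) ∧ (x ∈ T ∨ ∃ n : ℤ, x ^ n * y ∈ T) := by
  have h3 : Fact (Nat.Prime 3) := ⟨Nat.prime_three⟩
  set T' : Subgroup P := T.subgroupOf P with hT'
  have hc1 : Nat.card T' = Nat.card T := Nat.card_congr (Subgroup.subgroupOfEquivOfLe hTP).toEquiv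
  have hc2 : Nat.card T' * T'.index = Nat.card P := T'.card_mul_index
  have hidx : T'.index = 3 := by
    obtain ⟨n, hn⟩ := (IsPGroup.iff_card.1 hP)
    have hd : T'.index ∣ 3 ^ n := by rw [← hn, ← hc2]; exact dvd_mul_left _ _
    obtain ⟨k, hk, hk'⟩ := (Nat.dvd_prime_pow Nat.prime_three).1 hd
    have hpos : 0 < Nat.card T := Nat.card_pos
    have hle : T'.index ≤ 3 := by
      rw [← hc2, hc1, mul_comm] at hcard
      exact Nat.le_of_mul_le_mul_right hcard hpos
    have hne : T'.index ≠ 1 := by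
      intro h
      have h1 : T' = ⊤ := Subgroup.index_eq_one.1 h
      have h2 : P ≤ T := by
        intro g hg
        have : (⟨g, hg⟩ : P) ∈ T' := by rw [h1]; trivial
        exact this
      exact hxy (hT x (h2 hx) y (h2 hy))
    rw [hk'] at hle hne ⊢
    match k, hle, hne with
    | 0, _, h => exact absurd (pow_zero 3) h
    | 1, _, _ => rfl
    | (k + 2), h, _ =>
      exfalso
      have : 9 ≤ 3 ^ (k + 2) := by
        calc 9 = 1 * 3 ^ 2 := by norm_num
          _ ≤ 3 ^ k * 3 ^ 2 := Nat.mul_le_mul_right _ (Nat.one_le_pow _ _ (by norm_num))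
          _ = 3 ^ (k + 2) := (pow_add 3 k 2).symm
      omega
  have hnorm : T'.Normal := by
    refine Subgroup.normal_of_index_eq_minFac_card ?_
    rw [hidx]
    obtain ⟨n, hn⟩ := (IsPGroup.iff_card.1 hP)
    rw [hn]
    have hn0 : n ≠ 0 := by
      rintro rfl
      have : Nat.card T' * T'.index = 1 := by rw [hc2, hn, pow_zero]
      rw [hidx] at this
      omega
    rw [Nat.prime_three.pow_minFac hn0]
  refine ⟨?_, ?_⟩
  · intro g hg t ht
    exact hnorm.conj_mem ⟨t, hTP ht⟩ ht ⟨g, hg⟩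
  · by_cases hxT : x ∈ T
    · exact Or.inl hxT
    · right
      have hq : Nat.card (P ⧸ T') = 3 := by
        rw [← Subgroup.index_eq_card]; exact hidx
      have hx1 : ((⟨x, hx⟩ : P) : P ⧸ T') ≠ 1 := by
        rw [Ne, QuotientGroup.eq_one_iff]
        exact hxT
      have hmem : ((⟨y, hy⟩ : P) : P ⧸ T') ∈ zpowers ((⟨x, hx⟩ : P) : P ⧸ T') := mem_zpowers_of_prime_card hq hx1
      obtain ⟨n, hn⟩ := mem_zpowers_iff.1 hmem
      refine ⟨-n, ?_⟩
      have h1 : (((⟨x, hx⟩ : P) ^ n : P) : P ⧸ T') = ((⟨y, hy⟩ : P) : P ⧸ T') := by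
        rw [QuotientGroup.mk_zpow]; exact hn
      have h2 := QuotientGroup.eq.1 h1
      have h3 : ((((⟨x, hx⟩ : P) ^ n)⁻¹ * (⟨y, hy⟩ : P) : P) : G) ∈ T := h2
      rw [zpow_neg]
      simpa using h3

end gen

variable {F : Type*} [Field F] {σ : F →+* F} {G : Type u} [Group G] (S : Full σ G)

section fin

variable [Finite F] [Finite G] (hF : ∃ c : Fˣ, c ≠ 1) (hR : S.R.p = 2) (hq : Nat.card F % 3 = 2)
include hF hR hq

/-- the abelian group `T3` -/
theorem exists_T3 : ∃ T : Subgroup G, IsPGroup 3 T ∧ (∀ a ∈ T, ∀ b ∈ T, a * b = b * a) ∧ e3 S ∈ T ∧ e3b S ∈ T ∧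
    (∀ t ∈ T, t * t * t = 1 → ∃ i j, t = E S i j) ∧ 3 ^ (2 * (Nat.card F + 1).factorization 3) ≤ Nat.card T := by
  have h3 : Fact (Nat.Prime 3) := ⟨Nat.prime_three⟩
  have hz : IsPGroup 3 (zpowers (⟨e3 S, e3_mem S⟩ : S.LO)) :=
    H42.Tw.isPGroup_zpowers (Subtype.ext (by rw [Subgroup.coe_pow]; exact e3_pow S))
  obtain ⟨R, hRz⟩ := hz.exists_le_sylow
  set R1 : Subgroup G := (R : Subgroup S.LO).map S.LO.subtype with hR1
  have hR1LO : R1 ≤ S.LO := by rintro _ ⟨x, -, rfl⟩; exact x.2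
  have hR1p : IsPGroup 3 R1 := R.isPGroup'.map _
  have he3R : e3 S ∈ R1 := ⟨⟨e3 S, e3_mem S⟩, hRz (mem_zpowers _), rfl⟩
  have hcyc : IsCyclic R1 := H42.Tw.cyc S hF hR (by norm_num) (by omega) (j := 1) R1 hR1LO hR1p
  have hc1 : Nat.card R1 = 3 ^ (Nat.card S.LO).factorization 3 := by
    rw [hR1, Subgroup.card_map_of_injective S.LO.subtype_injective]
    exact R.card_eq_multiplicity
  have hdvd : Nat.card F + 1 ∣ Nat.card S.LO := by
    have hne : S.XZ 1 ≠ S.XZ (1 + 8) := by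
      intro h
      obtain ⟨x, hx, hx1⟩ := S.zsys8.exists_ne 1
      exact hx1 (S.X_inf_opp hx (h ▸ hx))
    have h1 := H42.Tw.card_succ_dvd S.zsys8 hne
    have h2 := H42.Tw.card_odd S 0
    rw [show (2 : ℤ) * 0 + 1 = 1 by ring] at h2
    rw [h2] at h1
    exact h1
  have hcle : 3 ^ (Nat.card F + 1).factorization 3 ≤ Nat.card R1 := by
    rw [hc1]
    refine Nat.pow_le_pow_right (by norm_num) ?_
    exact (Nat.factorization_le_iff_dvd (by omega) Nat.card_pos.ne').2 hdvd 3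
  set R5 : Subgroup G := R1.map (S.ck 2).toMonoidHom with hR5
  have hR5M : R5 ≤ M5 S := by rintro _ ⟨x, hx, rfl⟩; exact ck_LO S (hR1LO hx)
  have hR5p : IsPGroup 3 R5 := hR1p.map _
  have hc5 : Nat.card R5 = Nat.card R1 := by
    exact Subgroup.card_map_of_injective (K := R1) (f := (S.ck 2).toMonoidHom) (S.ck 2).injective
  have hcomm : ∀ a ∈ R1, ∀ b ∈ R5, a * b = b * a := fun a ha b hb => comm_M5 S (hR1LO ha) (hR5M hb)
  have hab1 : ∀ a ∈ R1, ∀ b ∈ R1, a * b = b * a := by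
    intro a ha b hb
    have := hcyc.isMulCommutative.is_comm.comm (⟨a, ha⟩ : R1) ⟨b, hb⟩
    exact congrArg Subtype.val this
  have hab5 : ∀ a ∈ R5, ∀ b ∈ R5, a * b = b * a := by
    rintro _ ⟨a, ha, rfl⟩ _ ⟨b, hb, rfl⟩
    rw [← map_mul, hab1 a ha b hb, map_mul]
  -- elements of order 3 in `R1`
  have hord : ∀ x ∈ R1, x * x * x = 1 → ∃ k : ℕ, x = e3 S ^ k := by
    intro x hx hx3
    have h1 := H42.Tw.mem_of_pow hcyc he3R (e3_pow S) (e3_ne S) hx (by rw [pow_succ, pow_two]; exact hx3)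
      (mem_zpowers (e3 S))
    have h2 := (mem_powers_iff_mem_zpowers (x := e3 S) (y := x)).2 h1
    obtain ⟨k, hk⟩ := Submonoid.mem_powers_iff _ _ |>.1 h2
    exact ⟨k, hk.symm⟩
  -- `R1 ⊓ R5 = 1`
  have hinf : ∀ x ∈ R1, x ∈ R5 → x = 1 := by
    by_contra hcon
    push Not at hcon
    obtain ⟨x, hx1, hx5, hxne⟩ := hcon
    have hD : IsPGroup 3 ↥(R1 ⊓ R5) := hR1p.to_le inf_le_left
    have hDne : R1 ⊓ R5 ≠ ⊥ := by
      intro h
      have : x ∈ R1 ⊓ R5 := ⟨hx1, hx5⟩
      rw [h, Subgroup.mem_bot] at this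
      exact hxne this
    obtain ⟨y, hy, hyo⟩ := H240.StrongP.exists_order_p hD hDne
    have hy3 : y ^ 3 = 1 := by rw [← hyo]; exact pow_orderOf_eq_one y
    obtain ⟨k, hk⟩ := hord y hy.1 (by rw [pow_succ, pow_two] at hy3; exact hy3)
    have h1 : E S (k : ZMod 3) 0 ∈ M5 S := by
      have : E S (k : ZMod 3) 0 = y := by
        unfold E
        rw [ZMod.val_zero, pow_zero, mul_one, ZMod.val_natCast, hk]
        exact (pow_eq_pow_mod k (e3_pow S)).symm
      rw [this]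
      exact hR5M hy.2
    have h2 := E_mem_M5 S h1
    have h4 : y = 1 := by
      have h5 : 3 ∣ k := (ZMod.natCast_eq_zero_iff k 3).1 h2
      obtain ⟨l, rfl⟩ := h5
      rw [hk, pow_mul, e3_pow, one_pow]
    rw [h4, orderOf_one] at hyo
    omega
  have hform : ∀ t ∈ R1 ⊔ R5, ∃ a ∈ R1, ∃ b ∈ R5, t = a * b := fun t ht =>
    mem_sup_of_norm (fun a ha b hb => by rw [hcomm a ha b hb, mul_inv_cancel_right]; exact hb) ht
  refine ⟨R1 ⊔ R5, ?_, ?_, Subgroup.mem_sup_left he3R, Subgroup.mem_sup_right ⟨_, he3R, rfl⟩, ?_, ?_⟩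
  · refine IsPGroup.to_sup_of_normal_right' hR1p hR5p ?_
    intro a ha
    rw [mem_normalizer_iff]
    intro b
    constructor
    · intro hb
      rw [hcomm a ha b hb, mul_inv_cancel_right]; exact hb
    · intro hb
      have h1 := hcomm a ha _ hb
      have h2 : a * b * a⁻¹ = b := by
        have : a * (a * b * a⁻¹) * a⁻¹ = a * b * a⁻¹ := by rw [h1, mul_inv_cancel_right]
        have h4 : a * b * a⁻¹ = b := by
          have := mul_left_cancel (mul_right_cancel this)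
          exact this
        exact h4
      rwa [h2] at hb
  · intro s hs t ht
    obtain ⟨a, ha, b, hb, rfl⟩ := hform s hs
    obtain ⟨a', ha', b', hb', rfl⟩ := hform t ht
    calc a * b * (a' * b') = a * (b * a') * b' := by group
      _ = (a * a') * (b * b') := by rw [← hcomm a' ha' b hb]; group
      _ = a' * (a * b') * b := by rw [hab1 a ha a' ha', hab5 b hb b' hb']; group
      _ = _ := by rw [hcomm a ha b' hb']; group
  · intro t ht ht3
    obtain ⟨a, ha, b, hb, rfl⟩ := hform t ht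
    have h1 : (a * a * a) * (b * b * b) = 1 := by
      rw [← ht3]
      have c1 := hcomm a ha b hb
      have := cube_mul (a := a) (y := b) (c := 1) (by rw [one_mul, c1]) (by rw [one_mul, mul_one]) (by rw [one_mul, mul_one])
      rw [this, mul_one, mul_one, one_mul]
    have h2 : a * a * a = 1 := by
      refine hinf _ (mul_mem (mul_mem ha ha) ha) ?_
      rw [eq_inv_of_mul_eq_one_left h1]
      exact inv_mem (mul_mem (mul_mem hb hb) hb)
    have h4 : b * b * b = 1 := by rwa [h2, one_mul] at h1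
    obtain ⟨k, hk⟩ := hord a ha h2
    obtain ⟨b0, hb0, rfl⟩ := hb
    have h5 : b0 * b0 * b0 = 1 := by
      have : S.ck 2 (b0 * b0 * b0) = 1 := by rw [map_mul, map_mul]; exact h4
      exact (MulEquiv.map_eq_one_iff _).1 this
    obtain ⟨l, hl⟩ := hord b0 hb0 h5
    refine ⟨k, l, ?_⟩
    unfold E
    rw [ZMod.val_natCast, ZMod.val_natCast, ← pow_eq_pow_mod k (e3_pow S), ← pow_eq_pow_mod l (e3b_pow S), ← hk]
    congr 1
    show S.ck 2 b0 = _
    rw [hl, map_pow]; rfl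
  · have hinj : Function.Injective (fun ab : R1 × R5 => (⟨ab.1 * ab.2, mul_mem (Subgroup.mem_sup_left ab.1.2)
        (Subgroup.mem_sup_right ab.2.2)⟩ : ↥(R1 ⊔ R5))) := by
      rintro ⟨a, b⟩ ⟨a', b'⟩ h
      have h1 : (a : G) * b = a' * b' := congrArg Subtype.val h
      have h2 : (a' : G)⁻¹ * a = b' * (b : G)⁻¹ := by
        rw [inv_mul_eq_iff_eq_mul, ← mul_assoc, eq_mul_inv_iff_mul_eq]; exact h1
      have h4 := hinf _ (mul_mem (inv_mem a'.2) a.2) (by rw [h2]; exact mul_mem b'.2 (inv_mem b.2))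
      rw [h4] at h2
      exact Prod.ext (Subtype.ext (inv_mul_eq_one.1 h4).symm) (Subtype.ext (mul_inv_eq_one.1 h2.symm).symm)
    have h1 := Nat.card_le_card_of_injective _ hinj
    rw [Nat.card_prod, hc5] at h1
    calc 3 ^ (2 * (Nat.card F + 1).factorization 3) = 3 ^ (Nat.card F + 1).factorization 3 * 3 ^ (Nat.card F + 1).factorization 3 := by
          rw [two_mul, pow_add]
      _ ≤ Nat.card R1 * Nat.card R1 := Nat.mul_le_mul hcle hcle
      _ ≤ _ := h1

/-- **an element of order 3 acting on `E3`** -/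
theorem exists_w (hcard : (Nat.card G).factorization 3 ≤ 2 * (Nat.card F + 1).factorization 3 + 1)
    {x y z : G} (hx : x ^ 3 = 1) (hy : y ^ 3 = 1) (hzx : z * x = x * z) (hzy : z * y = y * z) (hxy : x * y = z * (y * x))
    (hz : z ≠ 1) : ∃ w : G, ∃ m, w * w * w = 1 ∧ Act S w m ∧ m ≠ (1, 0, 0, 1) := by
  have h3 : Fact (Nat.Prime 3) := ⟨Nat.prime_three⟩
  obtain ⟨T, hTp, hTc, he, heb, hTE, hTcard⟩ := exists_T3 S hF hR hq
  obtain ⟨P, hP⟩ := hTp.exists_le_sylow
  obtain ⟨X, hX, hxX, hyX⟩ := H42.Tw.exists_pgroup hx hy hzx hzy hxy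
  obtain ⟨Q, hQ⟩ := hX.exists_le_sylow
  obtain ⟨g, hg⟩ := MulAction.exists_smul_eq G Q P
  have hmem : ∀ v ∈ X, g * v * g⁻¹ ∈ (P : Subgroup G) := by
    intro v hv
    rw [← hg, Sylow.coe_subgroup_smul]
    exact Subgroup.smul_mem_pointwise_smul v (MulAut.conj g) (Q : Subgroup G) (hQ hv)
  -- the conjugates
  have conj_hom : ∀ a b : G, g * (a * b) * g⁻¹ = (g * a * g⁻¹) * (g * b * g⁻¹) := fun a b => by group
  obtain ⟨x', hx'⟩ : ∃ x', x' = g * x * g⁻¹ := ⟨_, rfl⟩
  obtain ⟨y', hy'⟩ : ∃ y', y' = g * y * g⁻¹ := ⟨_, rfl⟩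
  obtain ⟨z', hz'⟩ : ∃ z', z' = g * z * g⁻¹ := ⟨_, rfl⟩
  have kx : x' * x' * x' = 1 := by
    rw [hx', ← conj_hom, ← conj_hom, ← pow_two, ← pow_succ, hx]; group
  have ky : y' * y' * y' = 1 := by
    rw [hy', ← conj_hom, ← conj_hom, ← pow_two, ← pow_succ, hy]; group
  have kzx : z' * x' = x' * z' := by rw [hx', hz', ← conj_hom, hzx, conj_hom]
  have kzy : z' * y' = y' * z' := by rw [hy', hz', ← conj_hom, hzy, conj_hom]
  have kxy : x' * y' = z' * (y' * x') := by rw [hx', hy', hz', ← conj_hom, hxy, conj_hom, conj_hom]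
  have kz : z' ≠ 1 := by
    intro h
    apply hz
    have : z = g⁻¹ * z' * g := by rw [hz']; group
    rw [this, h]; group
  have hne : x' * y' ≠ y' * x' := by
    intro h
    rw [kxy] at h
    exact kz (mul_eq_right.1 h)
  have hx'P : x' ∈ (P : Subgroup G) := by rw [hx']; exact hmem x hxX
  have hy'P : y' ∈ (P : Subgroup G) := by rw [hy']; exact hmem y hyX
  have hcardP : Nat.card (P : Subgroup G) ≤ 3 * Nat.card T := by
    have h1 : Nat.card (P : Subgroup G) = 3 ^ (Nat.card G).factorization 3 := P.card_eq_multiplicity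
    rw [h1]
    calc 3 ^ (Nat.card G).factorization 3 ≤ 3 ^ (2 * (Nat.card F + 1).factorization 3 + 1) :=
          Nat.pow_le_pow_right (by norm_num) hcard
      _ = 3 * 3 ^ (2 * (Nat.card F + 1).factorization 3) := by rw [pow_succ, mul_comm]
      _ ≤ _ := Nat.mul_le_mul_left 3 hTcard
  obtain ⟨hnorm, hcase⟩ := index_facts P.isPGroup' hP hTc hcardP hx'P hy'P hne
  -- it is enough to find `w ∈ P` and `k ∈ T`, `k ^ 3 = 1`, which do not commute
  have key : ∀ w ∈ (P : Subgroup G), w * w * w = 1 → ∀ k ∈ T, k * k * k = 1 → w * k ≠ k * w →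
      ∃ w : G, ∃ m, w * w * w = 1 ∧ Act S w m ∧ m ≠ (1, 0, 0, 1) := by
    intro w hw hw3 k hk hk3 hwk
    have cube : ∀ t, t * t * t = 1 → (w * t * w⁻¹) * (w * t * w⁻¹) * (w * t * w⁻¹) = 1 := by
      intro t ht
      have e : (w * t * w⁻¹) * (w * t * w⁻¹) * (w * t * w⁻¹) = w * (t * t * t) * w⁻¹ := by group
      rw [e, ht, mul_one, mul_inv_cancel]
    obtain ⟨a, b, hab⟩ := hTE _ (hnorm w hw _ he) (cube _ (e3_cube S))
    obtain ⟨c, d, hcd⟩ := hTE _ (hnorm w hw _ heb) (cube _ (by rw [← pow_two, ← pow_succ]; exact e3b_pow S))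
    have hA : Act S w (a, b, c, d) := ⟨hab, hcd⟩
    refine ⟨w, (a, b, c, d), hw3, hA, ?_⟩
    intro h
    rw [h] at hA
    obtain ⟨i, j, hij⟩ := hTE k hk hk3
    apply hwk
    have h1 := hA.conj_E S i j
    simp only [mul_one, mul_zero, add_zero, zero_add] at h1
    rw [hij]
    exact mul_inv_eq_iff_eq_mul.1 h1
  rcases hcase with hxT | ⟨n, hn⟩
  · exact key y' hy'P ky x' hxT kx (fun h => hne h.symm)
  · -- `k = x' ^ n * y'`
    have hzpx : Commute z' x' := kzx
    have hzpy : Commute z' y' := kzy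
    have hyx : y' * x' = z'⁻¹ * (x' * y') := by rw [kxy]; group
    have hyx' : ∀ n : ℤ, y' * x' ^ n = z' ^ (-n) * (x' ^ n * y') := by
      have hconj : y' * x' * y'⁻¹ = z'⁻¹ * x' := by rw [hyx]; group
      intro n
      have h1 : y' * x' ^ n * y'⁻¹ = z' ^ (-n) * x' ^ n := by
        rw [← conj_zpow, hconj, (hzpx.inv_left).mul_zpow, inv_zpow, zpow_neg]
      rw [← mul_assoc, ← h1]; group
    have hz3 : z' * z' * z' = 1 := by
      have h1 : x' * y' * x'⁻¹ = z' * y' := by rw [kxy]; group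
      have h2 : (x' * y' * x'⁻¹) * (x' * y' * x'⁻¹) * (x' * y' * x'⁻¹) = 1 := by
        have e : (x' * y' * x'⁻¹) * (x' * y' * x'⁻¹) * (x' * y' * x'⁻¹) = x' * (y' * y' * y') * x'⁻¹ := by group
        rw [e, ky]; group
      rw [h1] at h2
      have h4 := cube_mul (a := z') (y := y') (c := 1) (by rw [one_mul, kzy]) (by rw [one_mul, mul_one])
        (by rw [one_mul, mul_one])
      rw [h4, ky, mul_one, mul_one, one_mul, mul_one] at h2
      exact h2
    have hk3 : (x' ^ n * y') * (x' ^ n * y') * (x' ^ n * y') = 1 := by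
      have h1 := cube_mul (a := x' ^ n) (y := y') (c := z' ^ (-n)) (hyx' n) ((hzpx.zpow_zpow _ _).eq)
        ((hzpy.zpow_left _).eq)
      have e1 : z' ^ (-n) * z' ^ (-n) * z' ^ (-n) = (z' * z' * z') ^ (-n) := by
        have : z' * z' * z' = z' ^ (3 : ℤ) := by rw [zpow_ofNat, pow_succ, pow_two]
        rw [this, ← zpow_mul, ← zpow_add, ← zpow_add]
        congr 1; ring
      have e2 : x' ^ n * x' ^ n * x' ^ n = (x' * x' * x') ^ n := by
        have : x' * x' * x' = x' ^ (3 : ℤ) := by rw [zpow_ofNat, pow_succ, pow_two]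
        rw [this, ← zpow_mul, ← zpow_add, ← zpow_add]
        congr 1; ring
      rw [h1, e1, e2, hz3, kx, ky, one_zpow, one_zpow, one_mul, one_mul]
    refine key x' hx'P kx _ hn hk3 ?_
    intro h
    apply hne
    have h1 : x' ^ n * (x' * y') = x' ^ n * (y' * x') := by
      calc x' ^ n * (x' * y') = x' * (x' ^ n * y') := by
            rw [← mul_assoc, ← mul_assoc]
            congr 1
            exact ((Commute.refl x').zpow_left n).eq
        _ = _ := by rw [h]; group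
    exact mul_left_cancel h1

end fin

end Cfsg.Agent.H772.TF
end

-- part: H772/TF/Plus
section
set_option linter.all false
open scoped Cfsg.Agent.FastGrp

-- part: H772/TF/SLtwo
section
/-!
# Elements of order `p ∣ q + 1` of `SL₂(q)`, `q` even, `q ≡ 2 mod 3`, commuting with `up 1 * lo 1` (S2120, task 708)
-/

set_option autoImplicit false

namespace Cfsg.Agent.H772.TF.SLtwo

open Matrix MatrixGroups Cfsg.Agent.ChevalleyStructure.SL2Hom Cfsg.Agent.ClassicalGeometry.NonsplitTorus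

variable {K : Type*} [Field K]

/-- the element of order 3 -/
def E0 : SL(2, K) := up 1 * lo 1

theorem coe_E0 [CharP K 2] : ((E0 : SL(2, K)) : Matrix (Fin 2) (Fin 2) K) = !![0, 1; 1, 1] := by
  show !![(1 : K), 1; 0, 1] * !![1, 0; 1, 1] = _
  have h2 : (1 : K) + 1 = 0 := CharTwo.add_self_eq_zero 1
  ext i j
  (revert i j; simp only [Matrix.mul_apply, Fin.sum_univ_two, h2, _root_.Fin.forall_fin_succ, _root_.Matrix.of_apply, _root_.Matrix.cons_val', _root_.Matrix.cons_val_fin_one, Fin.isValue, _root_.Matrix.cons_val_zero, _root_.Matrix.cons_val_one, _root_.mul_one, _root_.Matrix.cons_val_succ, _root_.MulZeroClass.mul_zero, _root_.zero_add, _root_.implies_true, _root_.and_true, _root_.and_self])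

theorem eq_up_lo_up {g : SL(2, K)} (hc : g 1 0 ≠ 0) : ∃ x y, g = up x * lo (g 1 0) * up y := by
  refine ⟨(g 0 0 - 1) / g 1 0, (g 1 1 - 1) / g 1 0, ?_⟩
  have hdet : g 0 0 * g 1 1 - g 0 1 * g 1 0 = 1 := by
    have := g.2
    rwa [Matrix.det_fin_two] at this
  apply Subtype.ext
  show (g : Matrix (Fin 2) (Fin 2) K) = !![1, (g 0 0 - 1) / g 1 0; 0, 1] * !![1, 0; g 1 0, 1] * !![1, (g 1 1 - 1) / g 1 0; 0, 1]
  ext i j
  fin_cases i <;> fin_cases j
  · simp only [Matrix.mul_apply, Fin.sum_univ_two, _root_.Fin.zero_eta, _root_.Fin.isValue, _root_.Matrix.cons_mul, _root_.Nat.succ_eq_add_one, _root_.Nat.reduceAdd, _root_.Matrix.vecMul_cons, _root_.Matrix.head_cons, _root_.one_smul, _root_.Matrix.tail_cons, _root_.Matrix.smul_cons, _root_.smul_eq_mul, _root_.mul_one, _root_.Matrix.smul_empty, _root_.Matrix.empty_vecMul, _root_.add_zero, _root_.Matrix.add_cons, _root_.zero_add, _root_.Matrix.empty_add_empty, _root_.zero_smul, _root_.Matrix.empty_mul,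 _root_.Equiv.symm_apply_apply, _root_.Matrix.of_apply, _root_.Matrix.cons_val', _root_.Matrix.cons_val_fin_one, _root_.Matrix.cons_val_zero, _root_.Matrix.cons_val_one, _root_.MulZeroClass.mul_zero]
    field_simp
    ring
  · simp only [Matrix.mul_apply, Fin.sum_univ_two, _root_.Fin.zero_eta, _root_.Fin.isValue, _root_.Fin.mk_one, _root_.Matrix.cons_mul, _root_.Nat.succ_eq_add_one, _root_.Nat.reduceAdd, _root_.Matrix.vecMul_cons, _root_.Matrix.head_cons, _root_.one_smul, _root_.Matrix.tail_cons, _root_.Matrix.smul_cons, _root_.smul_eq_mul, _root_.mul_one, _root_.Matrix.smul_empty, _root_.Matrix.empty_vecMul, _root_.add_zero, _root_.Matrix.add_cons, _root_.zero_add, _root_.Matrix.empty_add_empty, _root_.zero_smul, _root_.Matrix.empty_mul, _root_.Equiv.symm_apply_apply, _root_.Matrix.of_apply, _root_.Matrix.cons_val', _root_.Matrix.cons_val_fin_one, _root_.Matrix.cons_val_zero, _root_.Matrix.cons_val_one]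
    field_simp
    linear_combination -hdet
  · simp only [Matrix.mul_apply, Fin.sum_univ_two, _root_.Fin.mk_one, _root_.Fin.isValue, _root_.Fin.zero_eta, _root_.Matrix.cons_mul, _root_.Nat.succ_eq_add_one, _root_.Nat.reduceAdd, _root_.Matrix.vecMul_cons, _root_.Matrix.head_cons, _root_.one_smul, _root_.Matrix.tail_cons, _root_.Matrix.smul_cons, _root_.smul_eq_mul, _root_.mul_one, _root_.Matrix.smul_empty, _root_.Matrix.empty_vecMul, _root_.add_zero, _root_.Matrix.add_cons, _root_.zero_add, _root_.Matrix.empty_add_empty, _root_.zero_smul, _root_.Matrix.empty_mul, _root_.Equiv.symm_apply_apply, _root_.Matrix.of_apply, _root_.Matrix.cons_val', _root_.Matrix.cons_val_fin_one, _root_.Matrix.cons_val_one, _root_.Matrix.cons_val_zero, _root_.MulZeroClass.mul_zero]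
  · simp only [Matrix.mul_apply, Fin.sum_univ_two, _root_.Fin.mk_one, _root_.Fin.isValue, _root_.Matrix.cons_mul, _root_.Nat.succ_eq_add_one, _root_.Nat.reduceAdd, _root_.Matrix.vecMul_cons, _root_.Matrix.head_cons, _root_.one_smul, _root_.Matrix.tail_cons, _root_.Matrix.smul_cons, _root_.smul_eq_mul, _root_.mul_one, _root_.Matrix.smul_empty, _root_.Matrix.empty_vecMul, _root_.add_zero, _root_.Matrix.add_cons, _root_.zero_add, _root_.Matrix.empty_add_empty, _root_.zero_smul, _root_.Matrix.empty_mul, _root_.Equiv.symm_apply_apply, _root_.Matrix.of_apply, _root_.Matrix.cons_val', _root_.Matrix.cons_val_fin_one, _root_.Matrix.cons_val_one, _root_.Matrix.cons_val_zero]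
    field_simp
    ring

theorem comm_E0 [CharP K 2] {g : SL(2, K)} (h : E0 * g = g * E0) (hg : g ≠ 1) : g 1 0 ≠ 0 := by
  intro hc
  apply hg
  have h1 : !![(0 : K), 1; 1, 1] * (g : Matrix (Fin 2) (Fin 2) K) = (g : Matrix (Fin 2) (Fin 2) K) * !![0, 1; 1, 1] := by
    rw [← coe_E0]; exact congrArg Subtype.val h
  have e00 := congrFun (congrFun h1 0) 0
  have e01 := congrFun (congrFun h1 0) 1
  simp only [Matrix.mul_apply, Fin.sum_univ_two, _root_.Fin.isValue, _root_.Matrix.of_apply, _root_.Matrix.cons_val', _root_.Matrix.cons_val_fin_one, _root_.Matrix.cons_val_zero, _root_.MulZeroClass.zero_mul, _root_.Matrix.cons_val_one, _root_.one_mul, _root_.zero_add, _root_.MulZeroClass.mul_zero, _root_.mul_one] at e00 e01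
  have hc' : (g : Matrix (Fin 2) (Fin 2) K) 1 0 = 0 := hc
  rw [hc'] at e00
  have hdet := g.2
  rw [Matrix.det_fin_two, hc', mul_zero, sub_zero, e01, ← e00, add_zero] at hdet
  have ha : (g : Matrix (Fin 2) (Fin 2) K) 0 0 = 1 := by
    have h2 : ((g : Matrix (Fin 2) (Fin 2) K) 0 0 + 1) * ((g : Matrix (Fin 2) (Fin 2) K) 0 0 + 1) = 0 := by
      have h3 : (1 : K) + 1 = 0 := CharTwo.add_self_eq_zero 1
      linear_combination hdet + (1 + (g : Matrix (Fin 2) (Fin 2) K) 0 0) * h3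
    have h4 := mul_self_eq_zero.1 h2
    exact CharTwo.add_eq_zero.1 h4
  apply Subtype.ext
  ext i j
  fin_cases i <;> fin_cases j
  · exact ha
  · exact e00.symm
  · exact hc'
  · show (g : Matrix (Fin 2) (Fin 2) K) 1 1 = 1
    rw [e01, ← e00, ha, add_zero]

variable [Fintype K] [CharP K 2]

theorem exists_comm (hq : Fintype.card K % 3 = 2) {p : ℕ} [hp : Fact p.Prime] (h : p ∣ Fintype.card K + 1) :
    ∃ g : SL(2, K), orderOf g = p ∧ E0 * g = g * E0 := by
  obtain ⟨g0, -, -, hg0, -⟩ := exists_torus (F := K)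
  have h20 : (2 : K) = 0 := CharTwo.two_eq_zero
  set q := Fintype.card K with hqd
  have h3 : 3 ∣ q + 1 := by omega
  obtain ⟨k3, hk3⟩ := h3
  obtain ⟨kp, hkp⟩ := h
  have hk30 : k3 ≠ 0 := by rintro rfl; omega
  have hkp0 : kp ≠ 0 := by rintro rfl; omega
  -- the element of order 3
  obtain ⟨t, ht⟩ : ∃ t, t = g0 ^ k3 := ⟨_, rfl⟩
  have hto : orderOf t = 3 := by
    rw [ht, orderOf_pow' g0 hk30, hg0, hk3, Nat.gcd_eq_right (dvd_mul_left k3 3)]
    exact Nat.mul_div_cancel _ (Nat.pos_of_ne_zero hk30)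
  have hg1 : orderOf (g0 ^ kp) = p := by
    rw [orderOf_pow' g0 hkp0, hg0, hkp, Nat.gcd_eq_right (dvd_mul_left kp p)]
    exact Nat.mul_div_cancel _ (Nat.pos_of_ne_zero hkp0)
  have ht3 : t * t * t = 1 := by
    have := pow_orderOf_eq_one t
    rw [hto, pow_succ, pow_two] at this
    exact this
  have ht1 : t ≠ 1 := by
    intro h
    rw [h, orderOf_one] at hto
    omega
  -- the matrix
  set T : Matrix (Fin 2) (Fin 2) K := (t : Matrix (Fin 2) (Fin 2) K) with hT
  have hdet : T.det = 1 := t.2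
  have hT2 := mul_self_eq T
  rw [hdet, one_smul] at hT2
  have hT3 : T * T * T = 1 := congrArg Subtype.val ht3
  have htr : T.trace = 1 := by
    by_contra hne
    have h1 : (T.trace * T.trace - 1) • T = (1 + T.trace) • (1 : Matrix (Fin 2) (Fin 2) K) := by
      have h2 : T * T * T = (T.trace * T.trace - 1) • T - T.trace • (1 : Matrix (Fin 2) (Fin 2) K) := by
        rw [hT2, sub_mul, smul_mul_assoc, hT2, one_mul, smul_sub, smul_smul, sub_smul, one_smul]
        abel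
      rw [hT3] at h2
      rw [add_smul, one_smul]
      exact sub_eq_iff_eq_add.1 h2.symm
    have h2 : T.trace * T.trace - 1 ≠ 0 := by
      intro h0
      apply hne
      have h4 : (T.trace + 1) * (T.trace + 1) = 0 := by
        linear_combination h0 + (T.trace + 1) * h20
      exact CharTwo.add_eq_zero.1 (mul_self_eq_zero.1 h4)
    have h3 : T = ((T.trace * T.trace - 1)⁻¹ * (1 + T.trace)) • (1 : Matrix (Fin 2) (Fin 2) K) := by
      rw [← smul_smul, ← h1, smul_smul, inv_mul_cancel₀ h2, one_smul]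
    rcases eq_one_or_of_smul t _ h3 with h4 | h4
    · exact ht1 h4
    · apply ht1
      rw [h4]
      apply Subtype.ext
      have : (-1 : Matrix (Fin 2) (Fin 2) K) = 1 := by
        ext i j
        (revert i j; simp [CharTwo.neg_eq, _root_.Fin.forall_fin_succ])
      simpa using this
  rw [Matrix.trace_fin_two] at htr
  rw [Matrix.det_fin_two] at hdet
  have hc : T 1 0 ≠ 0 := by
    intro hc
    rw [hc, mul_zero, sub_zero] at hdet
    -- `a² + a + 1 = 0`
    have h1 : T 0 0 * T 0 0 + T 0 0 + 1 = 0 := by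
      have : T 1 1 = 1 + T 0 0 := by linear_combination htr - T 0 0 * h20
      rw [this] at hdet
      linear_combination hdet + h20
    have hne0 : T 0 0 ≠ 0 := by
      intro h0
      rw [h0] at h1
      simp at h1
    have hcube : T 0 0 ^ 3 = 1 := by linear_combination (T 0 0 - 1) * h1
    have hu : (Units.mk0 (T 0 0) hne0) ^ 3 = 1 := Units.ext hcube
    have hu1 : Units.mk0 (T 0 0) hne0 ≠ 1 := by
      intro h0
      have h4 : T 0 0 = 1 := congrArg Units.val h0
      rw [h4] at h1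
      have : (1 : K) = 0 := by linear_combination h1 - h20
      exact one_ne_zero this
    have : Fact (Nat.Prime 3) := ⟨Nat.prime_three⟩
    have ho := orderOf_eq_prime hu hu1
    have hd := orderOf_dvd_natCard (Units.mk0 (T 0 0) hne0)
    rw [ho, Nat.card_units, Nat.card_eq_fintype_card] at hd
    omega
  -- the conjugating element
  obtain ⟨s, hs⟩ : ∃ s : K, s * s * T 1 0 = 1 := by
    have hinj : Function.Injective (fun x : K => x * x) := by
      intro x y hxy
      have h1 : (x + y) * (x + y) = 0 := by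
        have h2 : x * x = y * y := hxy
        linear_combination h2 + (y * y + x * y) * h20
      exact CharTwo.add_eq_zero.1 (mul_self_eq_zero.1 h1)
    obtain ⟨s, hs⟩ := Finite.surjective_of_injective hinj (T 1 0)⁻¹
    have hs' : s * s = (T 1 0)⁻¹ := hs
    exact ⟨s, by rw [hs', inv_mul_cancel₀ hc]⟩
  let h : SL(2, K) := ⟨!![s, T 0 0 * s; 0, T 1 0 * s], by
    rw [Matrix.det_fin_two]
    simp only [_root_.Fin.isValue, _root_.Matrix.of_apply, _root_.Matrix.cons_val', _root_.Matrix.cons_val_zero, _root_.Matrix.cons_val_fin_one, _root_.Matrix.cons_val_one, _root_.MulZeroClass.mul_zero, _root_.sub_zero]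
    linear_combination hs⟩
  have hconj : h * E0 = t * h := by
    apply Subtype.ext
    show !![s, T 0 0 * s; 0, T 1 0 * s] * ((E0 : SL(2, K)) : Matrix (Fin 2) (Fin 2) K) = T * !![s, T 0 0 * s; 0, T 1 0 * s]
    rw [coe_E0]
    ext i j
    fin_cases i <;> fin_cases j
    · simp [Matrix.mul_apply, Fin.sum_univ_two]
    · simp only [Matrix.mul_apply, Fin.sum_univ_two, _root_.Fin.isValue, _root_.Fin.zero_eta, _root_.Fin.mk_one, _root_.Matrix.of_apply, _root_.Matrix.cons_val', _root_.Matrix.cons_val_fin_one, _root_.Matrix.cons_val_zero, _root_.Matrix.cons_val_one, _root_.mul_one]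
      linear_combination (-s * T 0 0) * htr + s * hdet + s * h20
    · simp [Matrix.mul_apply, Fin.sum_univ_two]
    · simp only [Matrix.mul_apply, Fin.sum_univ_two, _root_.Fin.isValue, _root_.Fin.mk_one, _root_.Matrix.of_apply, _root_.Matrix.cons_val', _root_.Matrix.cons_val_fin_one, _root_.Matrix.cons_val_one, _root_.Matrix.cons_val_zero, _root_.mul_one, _root_.zero_add]
      linear_combination (-s * T 1 0) * htr
  refine ⟨h⁻¹ * g0 ^ kp * h, ?_, ?_⟩
  · have e : h⁻¹ * g0 ^ kp * h = MulAut.conj h⁻¹ (g0 ^ kp) := by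
      rw [MulAut.conj_apply, inv_inv]
    rw [e, MulEquiv.orderOf_eq, hg1]
  · have hcomm : Commute t (g0 ^ kp) := by rw [ht]; exact (Commute.refl g0).pow_pow _ _
    have e1 : (E0 : SL(2, K)) = h⁻¹ * t * h := by rw [mul_assoc, ← hconj, inv_mul_cancel_left]
    rw [e1]
    calc h⁻¹ * t * h * (h⁻¹ * g0 ^ kp * h) = h⁻¹ * (t * g0 ^ kp) * h := by group
      _ = _ := by rw [hcomm.eq]; group

end Cfsg.Agent.H772.TF.SLtwo
end

-- part: H772/TF/Plus
section
/-!
# `²F₄(q)` has no strongly `p`-embedded subgroup for `p ∣ q + 1` (S2120, task 708)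

* `noSP_plus` : `²F₄(q)`, `q = 2 ^ (2 m + 1) ≥ 8`, `p ∣ q + 1` (`p = 3` included).
-/

set_option autoImplicit false
set_option linter.unusedSectionVars false

namespace Cfsg.Agent.H772.TF

open Cfsg.Agent.SplitTwo Cfsg.Agent.SplitTwo.ZS Cfsg.Agent.TitsThree.RankTwoZ
open Cfsg.Agent.KFacts.TwF4 Cfsg.Agent.KFacts.TwF4.Arc
open Cfsg.Agent.ChevalleyStructure.TwF4.TwistedFix
open Cfsg.Agent.ChevalleyStructure.SL2Hom
open Cfsg.Lie Subgroup

universe u

/-! ### the order -/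

theorem ord_eq {q k : ℕ} (hq : q = 3 * k + 2) : H42.Tw.ord q = (q + 1) ^ 2 * (3 * (q ^ 12 * (q - 1) ^ 2 * (3 * k ^ 2 + 3 * k + 1) *
    (q ^ 2 + 1) ^ 2 * (q ^ 4 - q ^ 2 + 1))) := by
  obtain ⟨r, hr⟩ : ∃ r, q = r + 1 := ⟨q - 1, by omega⟩
  have h4 : (r + 1) ^ 4 - 1 = ((r + 1) + 1) * r * ((r + 1) ^ 2 + 1) := H42.Tw.pow_four r
  have h1 : (r + 1) - 1 = r := rfl
  have h24 : (r + 1) ^ 4 - (r + 1) ^ 2 = (r + 1) ^ 2 * (r * (r + 2)) := by
    have : (r + 1) ^ 4 = (r + 1) ^ 2 + (r + 1) ^ 2 * (r * (r + 2)) := by ring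
    rw [this, Nat.add_sub_cancel_left]
  have h3 : (r + 1) ^ 3 + 1 = ((r + 1) + 1) * (3 * (3 * k ^ 2 + 3 * k + 1)) := by
    have hrk : r = 3 * k + 1 := by omega
    subst hrk
    ring
  rw [hr]
  unfold H42.Tw.ord
  rw [h4, h1, h24, h3]
  ring

theorem fact_ord {q : ℕ} (hq : q % 3 = 2) (hq2 : 2 ≤ q) :
    (H42.Tw.ord q).factorization 3 ≤ 2 * (q + 1).factorization 3 + 1 := by
  obtain ⟨k, hk⟩ : ∃ k, q = 3 * k + 2 := ⟨q / 3, by omega⟩
  rw [ord_eq hk]
  set M := q ^ 12 * (q - 1) ^ 2 * (3 * k ^ 2 + 3 * k + 1) * (q ^ 2 + 1) ^ 2 * (q ^ 4 - q ^ 2 + 1) with hM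
  have hM3 : ¬ 3 ∣ M := by
    have p3 := Nat.prime_three
    have a1 : ¬ 3 ∣ q ^ 12 := fun h => by have := p3.dvd_of_dvd_pow h; omega
    have a2 : ¬ 3 ∣ (q - 1) ^ 2 := fun h => by have := p3.dvd_of_dvd_pow h; omega
    have a3 : ¬ 3 ∣ 3 * k ^ 2 + 3 * k + 1 := by omega
    have a4 : ¬ 3 ∣ (q ^ 2 + 1) ^ 2 := fun h => by
      have h1 := p3.dvd_of_dvd_pow h
      have h2 : (q ^ 2 + 1) % 3 = 2 := by
        rw [Nat.add_mod, Nat.pow_mod, hq]
      omega
    have a5 : ¬ 3 ∣ q ^ 4 - q ^ 2 + 1 := by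
      intro h
      have h1 : q ^ 2 ≤ q ^ 4 := Nat.pow_le_pow_right (by (clear * - hk; omega)) (by norm_num)
      have h2 : q ^ 4 % 3 = 1 := by rw [Nat.pow_mod, hq]
      have h3 : q ^ 2 % 3 = 1 := by rw [Nat.pow_mod, hq]
      omega
    rw [hM]
    exact p3.not_dvd_mul (p3.not_dvd_mul (p3.not_dvd_mul (p3.not_dvd_mul a1 a2) a3) a4) a5
  have hM0 : M ≠ 0 := by
    intro h
    apply hM3
    rw [h]; exact dvd_zero _
  have hq1 : (q + 1) ^ 2 ≠ 0 := pow_ne_zero 2 (by omega)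
  rw [Nat.factorization_mul hq1 (mul_ne_zero (by norm_num) hM0), Nat.factorization_mul (by norm_num) hM0,
    Nat.factorization_pow]
  simp only [Finsupp.add_apply, Finsupp.smul_apply, smul_eq_mul]
  rw [Nat.factorization_eq_zero_of_not_dvd hM3, Nat.prime_three.factorization_self]

/-! ### the element `e1` -/

section

variable {K : Type u} [Field K] [Fintype K] [CharP K 2] {m : ℕ} (hK : Fintype.card K = 2 ^ (2 * m + 1)) {φ : K →+* K}
  (hφ : Rln φ (2 ^ m))

/-- `SL₂(q) → ⟨X_1, X_9⟩` -/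
theorem exists_hom : ∃ ψ : Matrix.SpecialLinearGroup (Fin 2) K →* ↥(twistedF4 K (2 ^ m)),
    (∀ u, ψ (up u) = (Inst.full hK hφ).o 0 (u ^ 2 ^ m)) ∧ ∀ u, ψ (lo u) = (Inst.full hK hφ).o 4 (u ^ 2 ^ m) := by
  have : Fact (Nat.Prime 2) := ⟨Nat.prime_two⟩
  obtain ⟨ψ, ψu, ψl⟩ := H128.TwF4Ab.exists_sl (K := K) (e := 2 ^ m) (iterateFrobenius K 2 m)
    (fun u => iterateFrobenius_def 2 m u)
  have ψT : ∀ x, ψ x ∈ twistedF4 K (2 ^ m) := by
    refine H128.TwF4Ab.hgen (fun z => z ∈ twistedF4 K (2 ^ m)) ψ ?_ ?_ (fun a b ha hb => mul_mem ha hb)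
      (fun a ha => inv_mem ha) (one_mem _)
    · intro u; rw [ψu]; exact H517.TwFTwo.X_mem _ u
    · intro u; rw [ψl]; exact H517.TwFTwo.Y_mem _ u
  refine ⟨ψ.codRestrict _ ψT, fun u => Subtype.ext ?_, fun u => Subtype.ext ?_⟩
  · show ψ (up u) = Cfsg.Agent.ChevalleyStructure.TwF4.Rel.X 33 (u ^ 2 ^ m) *
      Cfsg.Agent.ChevalleyStructure.TwF4.Rel.X 24 (φ (u ^ 2 ^ m))
    rw [ψu, hφ.phi_pow]
    exact Units.ext rfl
  · show ψ (lo u) = Cfsg.Agent.ChevalleyStructure.TwF4.Rel.X 14 (u ^ 2 ^ m) *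
      Cfsg.Agent.ChevalleyStructure.TwF4.Rel.X 23 (φ (u ^ 2 ^ m))
    rw [ψl, hφ.phi_pow]
    exact Units.ext rfl

theorem exists_e1 (hq : Nat.card K % 3 = 2) {p : ℕ} [hp : Fact p.Prime] (h : p ∣ Nat.card K + 1) :
    ∃ e1 ∈ (Inst.full hK hφ).LO, orderOf e1 = p ∧ e3 (Inst.full hK hφ) * e1 = e1 * e3 (Inst.full hK hφ) := by
  obtain ⟨ψ, ψu, ψl⟩ := exists_hom hK hφ
  set S := Inst.full hK hφ with hS
  rw [Nat.card_eq_fintype_card] at hq h
  obtain ⟨g, hgo, hgc⟩ := SLtwo.exists_comm (K := K) hq h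
  have hE0 : ψ SLtwo.E0 = e3 S := by
    rw [SLtwo.E0, map_mul, ψu, ψl, one_pow]; rfl
  have hg1 : g ≠ 1 := by
    rintro rfl
    rw [orderOf_one] at hgo
    exact hp.out.one_lt.ne hgo
  have hc := SLtwo.comm_E0 hgc hg1
  obtain ⟨x, y, hxy⟩ := SLtwo.eq_up_lo_up hc
  have hψg : ψ g = S.o 0 (x ^ 2 ^ m) * S.o 4 (g 1 0 ^ 2 ^ m) * S.o 0 (y ^ 2 ^ m) := by
    conv_lhs => rw [hxy]
    rw [map_mul, map_mul, ψu, ψl, ψu]
  refine ⟨ψ g, ?_, ?_, ?_⟩
  · rw [hψg]
    exact mul_mem (mul_mem (Subgroup.mem_sup_left (S.mX1 _)) (Subgroup.mem_sup_right (S.mX9 _)))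
      (Subgroup.mem_sup_left (S.mX1 _))
  · have hgp : (ψ g) ^ p = 1 := by rw [← map_pow, ← hgo, pow_orderOf_eq_one, map_one]
    refine orderOf_eq_prime hgp ?_
    intro h1
    rw [hψg] at h1
    have h2 : S.o 4 (g 1 0 ^ 2 ^ m) = (S.o 0 (x ^ 2 ^ m))⁻¹ * (S.o 0 (y ^ 2 ^ m))⁻¹ := by
      calc S.o 4 (g 1 0 ^ 2 ^ m) = (S.o 0 (x ^ 2 ^ m))⁻¹ * (S.o 0 (x ^ 2 ^ m) * S.o 4 (g 1 0 ^ 2 ^ m) *
            S.o 0 (y ^ 2 ^ m)) * (S.o 0 (y ^ 2 ^ m))⁻¹ := by group
        _ = _ := by rw [h1, mul_one]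
    have h3 : S.o 4 (g 1 0 ^ 2 ^ m) ∈ S.XZ 1 := by
      rw [h2]
      exact mul_mem (inv_mem (S.mX1 _)) (inv_mem (S.mX1 _))
    have h4 : S.o 4 (g 1 0 ^ 2 ^ m) = 1 := S.X_inf_opp h3 (S.mX9 _)
    exact hc (pow_eq_zero_iff (by positivity) |>.1 (S.o_eq_one h4))
  · rw [← hE0, ← map_mul, hgc, map_mul]

end

/-- the extraspecial group of order 27 -/
theorem exists_xyz (K : Type*) [Field K] [CharP K 2] {e : ℕ} (he : 0 < e) : ∃ x y z : ↥(Lie.twistedF4 K e),
    x ^ 3 = 1 ∧ y ^ 3 = 1 ∧ z * x = x * z ∧ z * y = y * z ∧ x * y = z * (y * x) ∧ z ≠ 1 := by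
  obtain ⟨x, y, z, hx, hy, hzx, hzy, hxy, hz1⟩ := H42.Tw.exists_three
  set f := ZMod.castHom (dvd_refl 2) K with hf
  let j : ↥(Lie.twistedF4 (ZMod 2) 1) →* ↥(Lie.twistedF4 K e) :=
    ((H42.Tw.glF (ZMod 2) K f).comp (Lie.twistedF4 (ZMod 2) 1).subtype).codRestrict (Lie.twistedF4 K e)
      fun g => H42.Tw.glF_mem K he g.2
  have hj : Function.Injective j := fun a b hab => Subtype.ext (H42.Tw.glF_injective _ _ _ (congrArg Subtype.val hab))
  refine ⟨j x, j y, j z, by rw [← map_pow, hx, map_one], by rw [← map_pow, hy, map_one], by rw [← map_mul, hzx, map_mul],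
    by rw [← map_mul, hzy, map_mul], by rw [← map_mul, hxy, map_mul, map_mul], ?_⟩
  intro h
  exact hz1 (hj (h.trans (map_one j).symm))

/-- **`²F₄(q)` has no strongly `p`-embedded subgroup, `p ∣ q + 1`.** -/
theorem noSP_plus {K : Type u} [Field K] [Fintype K] {m : ℕ} (hm : 1 ≤ m) (hK : Fintype.card K = 2 ^ (2 * m + 1))
    {p : ℕ} [hp : Fact p.Prime] (hp2 : p ≠ 2) (h : p ∣ 2 ^ (2 * m + 1) + 1) :
    H818.StrP.NoSP p ↥(Lie.twistedF4 K (2 ^ m)) := by
  have hch := Cfsg.Agent.ChevalleyStructure.TwF4.Twisted.charP_two hK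
  have hfin := H42.Tw.finite_tw (K := K) (2 ^ m)
  have hF := H42.Tw.exists_unit hm hK
  obtain ⟨φ, hφ⟩ := exists_rln hK
  have hcK : Nat.card K = 2 ^ (2 * m + 1) := by rw [Nat.card_eq_fintype_card, hK]
  have hq : Nat.card K % 3 = 2 := by
    rw [hcK, pow_succ, pow_mul, Nat.mul_mod, Nat.pow_mod]
    norm_num
  have hq2 : 2 ≤ Nat.card K := by
    rw [hcK]
    calc 2 = 2 ^ 1 := rfl
      _ ≤ 2 ^ (2 * m + 1) := Nat.pow_le_pow_right (by norm_num) (by omega)
  have hcard : Nat.card ↥(Lie.twistedF4 K (2 ^ m)) = H42.Tw.ord (Nat.card K) := by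
    rw [hcK]; exact Cfsg.Agent.S1068.result hK
  obtain ⟨x, y, z, hx, hy, hzx, hzy, hxy, hz⟩ := exists_xyz K (e := 2 ^ m) (by positivity)
  obtain ⟨w, M, hw3, hw, hM⟩ := exists_w (Inst.full hK hφ) hF rfl hq (by rw [hcard]; exact fact_ord hq hq2)
    hx hy hzx hzy hxy hz
  obtain ⟨e1, he1, ho, hc⟩ := exists_e1 hK hφ hq (p := p) (by rw [hcK]; exact h)
  exact noSP_of (Inst.full hK hφ) hF rfl hq hp2 he1 ho hc hw3 hw hM

end Cfsg.Agent.H772.TF
end

private theorem dce_b8fae73f9e78 : _root_.True := by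
  try have : _root_.True := by simp only [_root_.Cfsg.Agent.H772.TF.SLtwo.E0.eq_1]
  exact _root_.True.intro
end
end
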